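import Groth.Agent.FibFlatMod.Local
import Groth.Agent.QCoh.PullStalk

/-!
Descent of flatness over the fibre ring along a change of base field.
-/

set_option autoImplicit false
set_option linter.style.haveILetI false
set_option backward.isDefEq.respectTransparency false
set_option backward.isDefEq.respectTransparency.types false

universe u

open IsLocalRing TensorProduct

namespace Groth.Agent.FibFlatMod

/-- Reduction of a module modulo an ideal of the base, as a base change to the quotient algebra. -/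
theorem flat_quot_iff {T O M : Type u} [CommRing T] [CommRing O] [Algebra T O] [AddCommGroup M] [Module O M]
    [Module T M] [IsScalarTower T O M] (I : Ideal T) (K : Ideal O) (hK : I.map (algebraMap T O) = K)
    [Algebra (T ⧸ I) (O ⧸ K)] [IsScalarTower T (T ⧸ I) (O ⧸ K)] [SMulCommClass O (T ⧸ I) (O ⧸ K)] :
    Module.Flat (T ⧸ I) ((O ⧸ K) ⊗[O] M) ↔ Module.Flat (T ⧸ I) (M ⧸ (I • ⊤ : Submodule T M)) := by
  have hsub : (K • ⊤ : Submodule O M).restrictScalars T = I • ⊤ := by
    rw [← hK, Ideal.smul_restrictScalars, Submodule.restrictScalars_top]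
  haveI : IsScalarTower T (T ⧸ I) ((O ⧸ K) ⊗[O] M) := IsScalarTower.of_algebraMap_smul fun t z => by
    induction z using TensorProduct.induction_on with
    | zero => simp
    | add a b ha hb => rw [smul_add, smul_add, ha, hb]
    | tmul a m => rw [TensorProduct.smul_tmul', TensorProduct.smul_tmul', IsScalarTower.algebraMap_smul]
  let e := ((quotTensorEquivQuotSMul M K).restrictScalars T).trans
    ((Submodule.Quotient.restrictScalarsEquiv T _).symm.trans (Submodule.quotEquivOfEq _ _ hsub))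
  let e' := e.extendScalarsOfSurjective (Ideal.Quotient.mk_surjective : Function.Surjective (algebraMap T (T ⧸ I)))
  exact ⟨fun _ => Module.Flat.of_linearEquiv e'.symm, fun _ => Module.Flat.of_linearEquiv e'⟩

/-- If the base change of the fibre is flat over the fibre ring, so is the fibre. -/
theorem flat_fibre_descend {T O T' O' M M' : Type u} [CommRing T] [CommRing O] [CommRing T'] [CommRing O']
    [Algebra T O] [Algebra T' O'] [Algebra T T'] [Algebra O O'] [Algebra T O']
    [IsScalarTower T O O'] [IsScalarTower T T' O']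
    [AddCommGroup M] [Module O M] [Module T M] [IsScalarTower T O M]
    [AddCommGroup M'] [Module O' M'] [Module T' M'] [IsScalarTower T' O' M']
    (e : M' ≃ₗ[O'] O' ⊗[O] M) (I : Ideal T) (I' : Ideal T') (hI : I.map (algebraMap T T') ≤ I')
    (K : Ideal O) (hK : I.map (algebraMap T O) = K) (K' : Ideal O') (hK' : I'.map (algebraMap T' O') = K')
    (hflatT : (Ideal.quotientMap I' (algebraMap T T') (Ideal.map_le_iff_le_comap.1 hI)).Flat)
    (hKK : K ≤ K'.comap (algebraMap O O'))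
    (hflatO : (Ideal.quotientMap K' (algebraMap O O') hKK).Flat)
    [IsLocalRing O] [IsLocalRing O'] [IsLocalHom (algebraMap O O')] (hne : K' ≠ ⊤)
    (hM' : Module.Flat T' M') : Module.Flat (T ⧸ I) (M ⧸ (I • ⊤ : Submodule T M)) := by
  have hTO : I ≤ K.comap (algebraMap T O) := hK ▸ Ideal.le_comap_map
  have hTO' : I' ≤ K'.comap (algebraMap T' O') := hK' ▸ Ideal.le_comap_map
  letI : Algebra (T ⧸ I) (O ⧸ K) := (Ideal.quotientMap K (algebraMap T O) hTO).toAlgebra
  letI : Algebra (T' ⧸ I') (O' ⧸ K') := (Ideal.quotientMap K' (algebraMap T' O') hTO').toAlgebra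
  letI : Algebra (T ⧸ I) (T' ⧸ I') :=
    (Ideal.quotientMap I' (algebraMap T T') (Ideal.map_le_iff_le_comap.1 hI)).toAlgebra
  letI : Algebra (O ⧸ K) (O' ⧸ K') := (Ideal.quotientMap K' (algebraMap O O') hKK).toAlgebra
  letI : Algebra (T ⧸ I) (O' ⧸ K') := ((algebraMap (O ⧸ K) (O' ⧸ K')).comp (algebraMap (T ⧸ I) (O ⧸ K))).toAlgebra
  haveI : IsScalarTower (T ⧸ I) (O ⧸ K) (O' ⧸ K') := IsScalarTower.of_algebraMap_eq fun _ => rfl
  haveI : IsScalarTower (T ⧸ I) (T' ⧸ I') (O' ⧸ K') := by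
    refine IsScalarTower.of_algebraMap_eq fun a => ?_
    obtain ⟨a, rfl⟩ := Ideal.Quotient.mk_surjective a
    show Ideal.Quotient.mk K' (algebraMap O O' (algebraMap T O a)) = Ideal.Quotient.mk K' (algebraMap T' O' (algebraMap T T' a))
    rw [← IsScalarTower.algebraMap_apply T O O', ← IsScalarTower.algebraMap_apply T T' O']
  haveI : IsScalarTower T (T ⧸ I) (O ⧸ K) := IsScalarTower.of_algebraMap_eq fun _ => rfl
  haveI : IsScalarTower T' (T' ⧸ I') (O' ⧸ K') := IsScalarTower.of_algebraMap_eq fun _ => rfl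
  haveI : IsScalarTower O (O ⧸ K) (O' ⧸ K') := IsScalarTower.of_algebraMap_eq fun a => by
    show Ideal.Quotient.mk K' (algebraMap O O' a) = algebraMap (O ⧸ K) (O' ⧸ K') (Ideal.Quotient.mk K a)
    rfl
  haveI : SMulCommClass O (T ⧸ I) (O ⧸ K) := ⟨fun a b c => by
    simp only [Algebra.smul_def]; ring⟩
  haveI : SMulCommClass O' (T' ⧸ I') (O' ⧸ K') := ⟨fun a b c => by
    simp only [Algebra.smul_def]; ring⟩
  haveI : SMulCommClass O' (T ⧸ I) (O' ⧸ K') := ⟨fun a b c => by
    simp only [Algebra.smul_def]; ring⟩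
  haveI : SMulCommClass O (T ⧸ I) (O' ⧸ K') := ⟨fun a b c => by
    simp only [Algebra.smul_def]; ring⟩
  haveI : IsLocalRing (O ⧸ K) := by
    haveI : Nontrivial (O ⧸ K) := Ideal.Quotient.nontrivial_iff.2 fun h => hne <| by
      rw [Ideal.eq_top_iff_one, ← map_one (algebraMap O O')]
      exact hKK (h ▸ Submodule.mem_top)
    exact IsLocalRing.of_surjective' (Ideal.Quotient.mk K) Ideal.Quotient.mk_surjective
  haveI : Nontrivial (O' ⧸ K') := Ideal.Quotient.nontrivial_iff.2 hne
  haveI : IsLocalRing (O' ⧸ K') := IsLocalRing.of_surjective' (Ideal.Quotient.mk K') Ideal.Quotient.mk_surjective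
  haveI : IsLocalHom (algebraMap (O ⧸ K) (O' ⧸ K')) := by
    haveI : IsLocalHom ((algebraMap (O ⧸ K) (O' ⧸ K')).comp (Ideal.Quotient.mk K)) := by
      show IsLocalHom ((Ideal.Quotient.mk K').comp (algebraMap O O'))
      haveI : IsLocalHom (Ideal.Quotient.mk K') := IsLocalHom.of_surjective _ Ideal.Quotient.mk_surjective
      exact RingHom.isLocalHom_comp _ _
    refine ⟨fun a ha => ?_⟩
    obtain ⟨a, rfl⟩ := Ideal.Quotient.mk_surjective a
    exact (isUnit_of_map_unit ((algebraMap (O ⧸ K) (O' ⧸ K')).comp (Ideal.Quotient.mk K)) a ha).map _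
  haveI : Module.Flat (O ⧸ K) (O' ⧸ K') := hflatO
  haveI : Module.FaithfullyFlat (O ⧸ K) (O' ⧸ K') := Module.FaithfullyFlat.of_flat_of_isLocalHom
  haveI : Module.Flat (T ⧸ I) (T' ⧸ I') := hflatT
  haveI : Module.Flat (T' ⧸ I') ((O' ⧸ K') ⊗[O'] M') :=
    (flat_quot_iff I' K' hK').2 (flat_fibre I')
  haveI : IsScalarTower (T ⧸ I) (T' ⧸ I') ((O' ⧸ K') ⊗[O'] M') := inferInstance
  haveI : Module.Flat (T ⧸ I) ((O' ⧸ K') ⊗[O'] M') := Module.Flat.trans (T ⧸ I) (T' ⧸ I') _
  rw [← flat_quot_iff I K hK, ← QCoh.flat_tensor_faithfullyFlat_iff (A := T ⧸ I) (K := O ⧸ K) (L := O' ⧸ K')]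
  let E : (O' ⧸ K') ⊗[O ⧸ K] ((O ⧸ K) ⊗[O] M) ≃ₗ[O' ⧸ K'] (O' ⧸ K') ⊗[O'] M' :=
    AlgebraTensorModule.cancelBaseChange O (O ⧸ K) (O' ⧸ K') (O' ⧸ K') M ≪≫ₗ
      (AlgebraTensorModule.cancelBaseChange O O' (O' ⧸ K') (O' ⧸ K') M).symm ≪≫ₗ
      AlgebraTensorModule.congr (.refl (O' ⧸ K') (O' ⧸ K')) e.symm
  exact Module.Flat.of_linearEquiv (E.restrictScalars (T ⧸ I))

end Groth.Agent.FibFlatMod
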