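import Groth.Agent.FibFlatMod.Scheme
import Groth.Agent.FibFlatMod.Descend
import Groth.Agent.FibFlat.Core
import Groth.Agent.FlatStrat.Sheaf
import Groth.Agent.S4863
import Groth.Agent.AlgSpPts.Sep

/-!
The relative flat locus commutes with base change.
-/

set_option autoImplicit false
set_option linter.style.haveILetI false
set_option backward.isDefEq.respectTransparency false
set_option backward.isDefEq.respectTransparency.types false

universe u

open CategoryTheory CategoryTheory.Limits AlgebraicGeometry TopologicalSpace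
open IsLocalRing TensorProduct

namespace Groth.Agent.FibFlatMod

/-- Flatness at a point of a finitely presented module is kept by base change. -/
theorem isFlatOverAt_of_isPullback {X Y X' Y' : Scheme.{u}} {f : X ⟶ Y} [LocallyOfFinitePresentation f]
    {gX : X' ⟶ X} {f' : X' ⟶ Y'} {gY : Y' ⟶ Y} (sq : IsPullback gX f' f gY) {F : X.Modules}
    (hq : Coh.IsQCoh F) (hfp : CohB1.IsFP F) (x' : X') (hx : FlatMod.IsFlatOverAt f F (gX x')) :
    FlatMod.IsFlatOverAt f' ((Scheme.Modules.pullback gX).obj F) x' := by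
  haveI := hq
  obtain ⟨_, ⟨V, hV, rfl⟩, hxV, -⟩ :=
    Y.isBasis_affineOpens.exists_subset_of_mem_open (Set.mem_univ (f (gX x'))) isOpen_univ
  let L : X.Opens := ⟨_, S4863.result f F hfp⟩
  obtain ⟨_, ⟨U, hU, rfl⟩, hxU, hle⟩ :=
    X.isBasis_affineOpens.exists_subset_of_mem_open (show gX x' ∈ (L ⊓ f ⁻¹ᵁ V : X.Opens) from ⟨hx, hxV⟩)
      (L ⊓ f ⁻¹ᵁ V).2
  have hUV : U ≤ f ⁻¹ᵁ V := fun z hz => (hle hz).2
  have hy : gY (f' x') ∈ V := by
    rw [← Scheme.Hom.comp_apply, ← sq.w, Scheme.Hom.comp_apply]; exact hxV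
  obtain ⟨_, ⟨O, hO, rfl⟩, hxO, hOV⟩ :=
    Y'.isBasis_affineOpens.exists_subset_of_mem_open (show f' x' ∈ gY ⁻¹ᵁ V from hy) (gY ⁻¹ᵁ V).2
  refine FlatStrat.isFlatOverAt_pullback sq hq hV hU hUV hO hOV x' hxU hxO ?_
  letI : Algebra Γ(Y, V) Γ(Y', O) := (gY.appLE V O hOV).hom.toAlgebra
  letI : Module Γ(Y, V) Γ(F, U) := Module.compHom _ (f.appLE V U hUV).hom
  haveI : Module.Flat Γ(Y, V) Γ(F, U) := (QCoh.flat_appLE_iff f hq hU hV hUV).2 fun z hz => (hle hz).1
  infer_instance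

/-- The fibrewise flatness condition descends along a base change. -/
theorem fibre_flat_of_isPullback {X Y S X' Y' S' : Scheme.{u}} (f : X ⟶ Y) (g : Y ⟶ S) (F : X.Modules)
    (hq : Coh.IsQCoh F) {h : S' ⟶ S} {gY : Y' ⟶ Y} {g' : Y' ⟶ S'} (hY : IsPullback gY g' g h)
    {gX : X' ⟶ X} {f' : X' ⟶ Y'} (hX : IsPullback gX (f' ≫ g') (f ≫ g) h) (w : gX ≫ f = f' ≫ gY) (x' : X')
    (hF' : FlatMod.IsFlatOverAt f' ((Scheme.Modules.pullback gX).obj F) x') :
    letI := FlatMod.moduleStalkOver f F (gX x')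
    Module.Flat ((Y.presheaf.stalk (f (gX x'))) ⧸
        (maximalIdeal (S.presheaf.stalk (g (f (gX x'))))).map (g.stalkMap (f (gX x'))).hom)
      ((F.presheaf.stalk (gX x')) ⧸ ((maximalIdeal (S.presheaf.stalk (g (f (gX x'))))).map (g.stalkMap (f (gX x'))).hom •
        (⊤ : Submodule (Y.presheaf.stalk (f (gX x'))) (F.presheaf.stalk (gX x'))))) := by
  have hy : gY (f' x') = f (gX x') := by
    rw [← Scheme.Hom.comp_apply, ← w, Scheme.Hom.comp_apply]
  have hs : h (g' (f' x')) = g (f (gX x')) := by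
    rw [← Scheme.Hom.comp_apply g' h, ← hY.w, Scheme.Hom.comp_apply, hy]
  let mS := maximalIdeal (S.presheaf.stalk (g (f (gX x'))))
  let mS' := maximalIdeal (S'.presheaf.stalk (g' (f' x')))
  letI : Algebra (Y.presheaf.stalk (f (gX x'))) (X.presheaf.stalk (gX x')) := (f.stalkMap (gX x')).hom.toAlgebra
  letI : Algebra (Y'.presheaf.stalk (f' x')) (X'.presheaf.stalk x') := (f'.stalkMap x').hom.toAlgebra
  letI : Algebra (X.presheaf.stalk (gX x')) (X'.presheaf.stalk x') := (gX.stalkMap x').hom.toAlgebra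
  letI : Algebra (Y.presheaf.stalk (f (gX x'))) (Y'.presheaf.stalk (f' x')) :=
    (FibFlat.sm gY (f' x') (f (gX x')) hy).toAlgebra
  letI : Algebra (Y.presheaf.stalk (f (gX x'))) (X'.presheaf.stalk x') :=
    ((gX.stalkMap x').hom.comp (f.stalkMap (gX x')).hom).toAlgebra
  haveI : IsScalarTower (Y.presheaf.stalk (f (gX x'))) (X.presheaf.stalk (gX x')) (X'.presheaf.stalk x') :=
    IsScalarTower.of_algebraMap_eq fun _ => rfl
  have hsq : (gX.stalkMap x').hom.comp (f.stalkMap (gX x')).hom =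
      (f'.stalkMap x').hom.comp (FibFlat.sm gY (f' x') (f (gX x')) hy) := by
    rw [← FibFlat.sm_self gX x', ← FibFlat.sm_self f (gX x'), ← FibFlat.sm_self f' x',
      ← FibFlat.sm_comp gX f x' _ _ rfl rfl, ← FibFlat.sm_comp f' gY x' _ _ rfl hy]
    exact FibFlat.sm_congr w x' _ _
  haveI : IsScalarTower (Y.presheaf.stalk (f (gX x'))) (Y'.presheaf.stalk (f' x')) (X'.presheaf.stalk x') :=
    IsScalarTower.of_algebraMap_eq fun a => RingHom.congr_fun hsq a
  letI : Module (Y.presheaf.stalk (f (gX x'))) (F.presheaf.stalk (gX x')) := FlatMod.moduleStalkOver f F (gX x')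
  letI : Module (Y'.presheaf.stalk (f' x')) (((Scheme.Modules.pullback gX).obj F).presheaf.stalk x') :=
    FlatMod.moduleStalkOver f' ((Scheme.Modules.pullback gX).obj F) x'
  haveI : IsScalarTower (Y.presheaf.stalk (f (gX x'))) (X.presheaf.stalk (gX x')) (F.presheaf.stalk (gX x')) :=
    IsScalarTower.of_algebraMap_smul fun _ _ => rfl
  haveI : IsScalarTower (Y'.presheaf.stalk (f' x')) (X'.presheaf.stalk x')
      (((Scheme.Modules.pullback gX).obj F).presheaf.stalk x') := IsScalarTower.of_algebraMap_smul fun _ _ => rfl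
  haveI : IsLocalHom (algebraMap (X.presheaf.stalk (gX x')) (X'.presheaf.stalk x')) :=
    inferInstanceAs (IsLocalHom (gX.stalkMap x').hom)
  obtain ⟨e⟩ := QCoh.nonempty_pullStalkEquiv gX hq x'
  -- the four ideals
  have hg : (g.stalkMap (f (gX x'))).hom = FibFlat.sm g (f (gX x')) _ rfl := (FibFlat.sm_self _ _).symm
  have hloc : mS.map (FibFlat.sm h (g' (f' x')) _ hs) ≤ mS' := by
    rw [Ideal.map_le_iff_le_comap]
    intro a ha
    haveI := FibFlat.isLocalHom_sm h (g' (f' x')) _ hs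
    exact map_nonunit (FibFlat.sm h (g' (f' x')) _ hs) a ha
  have hI : (mS.map (FibFlat.sm g (f (gX x')) _ rfl)).map (FibFlat.sm gY (f' x') _ hy) ≤
      mS'.map (FibFlat.sm g' (f' x') _ rfl) := by
    rw [Ideal.map_map, ← FibFlat.sm_comp gY g _ _ _ hy rfl, FibFlat.sm_congr hY.w,
      FibFlat.sm_comp g' h _ _ _ rfl hs, ← Ideal.map_map]
    exact Ideal.map_mono hloc
  have hK : (mS.map (FibFlat.sm g (f (gX x')) _ rfl)).map (f.stalkMap (gX x')).hom =
      mS.map (FibFlat.sm (f ≫ g) (gX x') _ (Scheme.Hom.comp_apply _ _ _)) := by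
    rw [Ideal.map_map, ← FibFlat.sm_self f (gX x'), ← FibFlat.sm_comp f g _ _ _ rfl rfl]
  have hK' : (mS'.map (FibFlat.sm g' (f' x') _ rfl)).map (f'.stalkMap x').hom =
      mS'.map (FibFlat.sm (f' ≫ g') x' _ (Scheme.Hom.comp_apply _ _ _)) := by
    rw [Ideal.map_map, ← FibFlat.sm_self f' x', ← FibFlat.sm_comp f' g' _ _ _ rfl rfl]
  have hKK : mS.map (FibFlat.sm (f ≫ g) (gX x') _ (Scheme.Hom.comp_apply _ _ _)) ≤
      (mS'.map (FibFlat.sm (f' ≫ g') x' _ (Scheme.Hom.comp_apply _ _ _))).comap (gX.stalkMap x').hom := by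
    rw [← Ideal.map_le_iff_le_comap, Ideal.map_map, ← FibFlat.sm_self gX x',
      ← FibFlat.sm_comp gX (f ≫ g) _ _ _ rfl (Scheme.Hom.comp_apply _ _ _), FibFlat.sm_congr hX.w,
      FibFlat.sm_comp (f' ≫ g') h _ _ _ (Scheme.Hom.comp_apply _ _ _) hs, ← Ideal.map_map]
    exact Ideal.map_mono hloc
  have hne : mS'.map (FibFlat.sm (f' ≫ g') x' _ (Scheme.Hom.comp_apply _ _ _)) ≠ ⊤ := by
    refine fun htop => (maximalIdeal.isMaximal (X'.presheaf.stalk x')).ne_top (top_le_iff.1 (htop ▸ ?_))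
    rw [Ideal.map_le_iff_le_comap]
    intro a ha
    haveI := FibFlat.isLocalHom_sm (f' ≫ g') x' (g' (f' x')) (Scheme.Hom.comp_apply _ _ _)
    exact map_nonunit (FibFlat.sm (f' ≫ g') x' _ _) a ha
  have hflatT : (Ideal.quotientMap (mS'.map (FibFlat.sm g' (f' x') _ rfl)) (FibFlat.sm gY (f' x') _ hy)
      (Ideal.map_le_iff_le_comap.1 hI)).Flat :=
    FibFlat.quotient_flat_of_isPullback' hY (f' x') _ hy _ rfl _ rfl _ rfl _ rfl _
  have hflatO : (Ideal.quotientMap (mS'.map (FibFlat.sm (f' ≫ g') x' _ (Scheme.Hom.comp_apply _ _ _)))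
      (gX.stalkMap x').hom hKK).Flat := by
    have := FibFlat.quotient_flat_of_isPullback' hX x' _ rfl _ (Scheme.Hom.comp_apply f g _)
      _ (Scheme.Hom.comp_apply f' g' _) _ rfl _ rfl
      (by rw [FibFlat.sm_self]; exact hKK)
    simp only [FibFlat.sm_self] at this
    exact this
  have := flat_fibre_descend (T := Y.presheaf.stalk (f (gX x'))) (O := X.presheaf.stalk (gX x'))
    (T' := Y'.presheaf.stalk (f' x')) (O' := X'.presheaf.stalk x')
    (M := F.presheaf.stalk (gX x')) (M' := ((Scheme.Modules.pullback gX).obj F).presheaf.stalk x')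
    e (mS.map (FibFlat.sm g (f (gX x')) _ rfl)) (mS'.map (FibFlat.sm g' (f' x') _ rfl)) hI
    (mS.map (FibFlat.sm (f ≫ g) (gX x') _ (Scheme.Hom.comp_apply _ _ _))) hK
    (mS'.map (FibFlat.sm (f' ≫ g') x' _ (Scheme.Hom.comp_apply _ _ _))) hK' hflatT hKK hflatO hne hF'
  rw [show (g.stalkMap (f (gX x'))).hom = FibFlat.sm g (f (gX x')) _ rfl from hg]
  exact this

end Groth.Agent.FibFlatMod
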