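import Groth.Agent.S2106
import Mathlib

/-!
The fibrewise criterion of flatness for a module, with the intermediate algebra only essentially of
finite type.
-/

set_option autoImplicit false
set_option linter.style.haveILetI false

universe u

open IsLocalRing TensorProduct

namespace Groth.Agent.FibFlatMod

/-- An element lying, modulo the maximal ideal of the base, in the span of elements killed by `θ`
is sent by `θ` into the closed fibre ideal. -/
theorem mem_map_of_mem_span {R T : Type u} {σ : Type*} [CommRing R] [IsLocalRing R] [CommRing T] [Algebra R T]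
    [DecidableEq (MvPolynomial σ (ResidueField R))]
    (t₀ : Finset (MvPolynomial σ R)) (θ : MvPolynomial σ R →ₐ[R] T) (h0 : ∀ w ∈ t₀, θ w = 0)
    {a : MvPolynomial σ R} (ha : MvPolynomial.map (residue R) a ∈
      Ideal.span ((t₀.image (MvPolynomial.map (residue R)) : Finset _) : Set (MvPolynomial σ (ResidueField R)))) :
    θ a ∈ (maximalIdeal R).map (algebraMap R T) := by
  let K := (maximalIdeal R).map (algebraMap R T)
  let ρ : ResidueField R →+* T ⧸ K := Ideal.quotientMap K (algebraMap R T) Ideal.le_comap_map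
  let ψ : MvPolynomial σ R →+* T ⧸ K := (Ideal.Quotient.mk K).comp θ.toRingHom
  let E := MvPolynomial.eval₂Hom ρ fun k => ψ (MvPolynomial.X k)
  have hE : E.comp (MvPolynomial.map (residue R)) = ψ := by
    refine MvPolynomial.ringHom_ext (fun r => ?_) fun k => ?_
    · simp only [E, RingHom.comp_apply, MvPolynomial.map_C, MvPolynomial.eval₂Hom_C]
      show Ideal.Quotient.mk K (algebraMap R T r) = Ideal.Quotient.mk K (θ (MvPolynomial.C r))
      rw [← MvPolynomial.algebraMap_eq, θ.commutes]
    · simp [E]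
  rw [← Ideal.Quotient.eq_zero_iff_mem]
  show ψ a = 0
  rw [← hE, RingHom.comp_apply]
  refine (Ideal.span_le.2 ?_ : _ ≤ RingHom.ker E) ha
  intro w hw
  obtain ⟨w₀, hw₀, rfl⟩ := Finset.mem_image.1 hw
  rw [SetLike.mem_coe, RingHom.mem_ker, ← RingHom.comp_apply, hE]
  show Ideal.Quotient.mk K (θ w₀) = 0
  rw [h0 w₀ hw₀, map_zero]

/-- A local algebra essentially of finite type is a quotient of an algebra essentially of finite
presentation, by an ideal vanishing in the closed fibre. -/
theorem exists_fp_cover {R S : Type u} [CommRing R] [CommRing S] [IsLocalRing R] [IsLocalRing S] [Algebra R S]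
    [IsLocalHom (algebraMap R S)] [Algebra.EssFiniteType R S] :
    ∃ (S₁ : Type u) (_ : CommRing S₁) (_ : IsLocalRing S₁) (_ : Algebra R S₁) (_ : Algebra S₁ S)
      (_ : IsScalarTower R S₁ S), CAlgX.IsEssFinitePresentation R S₁ ∧ IsLocalHom (algebraMap R S₁) ∧
        Function.Surjective (algebraMap S₁ S) ∧
        RingHom.ker (algebraMap S₁ S) ≤ (maximalIdeal R).map (algebraMap R S₁) := by
  classical
  obtain ⟨σ, hσ⟩ := (Algebra.essFiniteType_iff R S).1 inferInstance
  let P := MvPolynomial σ R
  let π : P →ₐ[R] S := MvPolynomial.aeval Subtype.val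
  have hrange : Algebra.adjoin R (σ : Set S) = π.range := by
    rw [show (σ : Set S) = Set.range (Subtype.val : σ → S) from Subtype.range_coe.symm,
      Algebra.adjoin_range_eq_range_aeval]
  let τ : R →+* ResidueField R := residue R
  let I : Ideal P := RingHom.ker π.toRingHom
  obtain ⟨t, ht, htspan⟩ := (Submodule.fg_span_iff_fg_span_finset_subset
    (MvPolynomial.map τ '' (I : Set P))).1
    (IsNoetherian.noetherian (Ideal.span (MvPolynomial.map τ '' (I : Set P))))
  obtain ⟨t₀, ht₀, rfl⟩ := Finset.subset_set_image_iff.1 ht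
  let J : Ideal P := Ideal.span t₀
  haveI : Algebra.FinitePresentation R (P ⧸ J) := Algebra.FinitePresentation.quotient ⟨t₀, rfl⟩
  let π₁ : (P ⧸ J) →ₐ[R] S := Ideal.Quotient.liftₐ J π fun a ha => (Ideal.span_le.2 ht₀ : J ≤ I) ha
  letI : Algebra (P ⧸ J) S := π₁.toRingHom.toAlgebra
  haveI : IsScalarTower R (P ⧸ J) S := IsScalarTower.of_algebraMap_eq fun r => (π₁.commutes r).symm
  let q : Ideal (P ⧸ J) := (maximalIdeal S).comap (algebraMap (P ⧸ J) S)
  haveI : q.IsPrime := Ideal.IsPrime.comap _
  let S₁ := Localization.AtPrime q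
  have hunit : ∀ v : q.primeCompl, IsUnit (algebraMap (P ⧸ J) S v) := fun v =>
    IsLocalRing.notMem_maximalIdeal.1 v.2
  letI : Algebra S₁ S := (IsLocalization.lift hunit).toAlgebra
  haveI : IsScalarTower (P ⧸ J) S₁ S :=
    IsScalarTower.of_algebraMap_eq fun v => (IsLocalization.lift_eq hunit v).symm
  haveI : IsScalarTower R S₁ S := IsScalarTower.of_algebraMap_eq fun r => by
    rw [IsScalarTower.algebraMap_apply R (P ⧸ J) S₁, ← IsScalarTower.algebraMap_apply (P ⧸ J) S₁ S,
      ← IsScalarTower.algebraMap_apply R (P ⧸ J) S]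
  refine ⟨S₁, inferInstance, inferInstance, inferInstance, inferInstance, inferInstance,
    ⟨P ⧸ J, inferInstance, inferInstance, inferInstance, inferInstance, q.primeCompl, inferInstance,
      inferInstance⟩, ?_, ?_, ?_⟩
  · refine ((IsLocalRing.local_hom_TFAE (algebraMap R S₁)).out 0 2).2 (Ideal.map_le_iff_le_comap.2 fun r hr => ?_)
    rw [Ideal.mem_comap, IsScalarTower.algebraMap_apply R (P ⧸ J) S₁,
      IsLocalization.AtPrime.to_map_mem_maximal_iff S₁ q]
    show algebraMap (P ⧸ J) S (algebraMap R (P ⧸ J) r) ∈ maximalIdeal S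
    rw [← IsScalarTower.algebraMap_apply R (P ⧸ J) S]
    exact map_nonunit (algebraMap R S) r hr
  · intro s
    obtain ⟨v, hv, hu, hsv⟩ := hσ s
    rw [hrange] at hv hsv
    obtain ⟨v₀, rfl⟩ := hv
    obtain ⟨a₀, ha₀⟩ := hsv
    have hq : Ideal.Quotient.mk J v₀ ∈ q.primeCompl := IsLocalRing.notMem_maximalIdeal.2 hu
    refine ⟨IsLocalization.mk' S₁ (Ideal.Quotient.mk J a₀) ⟨_, hq⟩, ?_⟩
    refine (IsLocalization.lift_mk'_spec hunit _ _ _).2 ?_
    show π a₀ = π v₀ * s
    rw [mul_comm]
    exact ha₀
  · intro z hz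
    rw [RingHom.mem_ker] at hz
    obtain ⟨⟨a, v⟩, rfl⟩ := IsLocalization.mk'_surjective q.primeCompl z
    obtain ⟨a₀, rfl⟩ := Ideal.Quotient.mk_surjective a
    have ha : a₀ ∈ I := by
      show π a₀ = 0
      have := (IsLocalization.lift_mk'_spec hunit (Ideal.Quotient.mk J a₀) (0 : S) v).1 hz
      rw [mul_zero] at this
      exact this
    show IsLocalization.mk' S₁ _ _ ∈ _
    rw [IsLocalization.mk'_eq_mul_mk'_one]
    refine Ideal.mul_mem_right _ _ ?_
    exact mem_map_of_mem_span (T := S₁) t₀ ((IsScalarTower.toAlgHom R (P ⧸ J) S₁).comp (Ideal.Quotient.mkₐ R J))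
      (fun w hw => by
        show algebraMap (P ⧸ J) S₁ (Ideal.Quotient.mk J w) = 0
        rw [Ideal.Quotient.eq_zero_iff_mem.2 (Ideal.subset_span hw : w ∈ J), map_zero])
      (htspan.le (Ideal.subset_span ⟨a₀, ha, rfl⟩))

/-- The fibre of a module flat over the base is flat over the fibre ring. -/
theorem flat_fibre {S M : Type u} [CommRing S] [AddCommGroup M] [Module S M] [Module.Flat S M] (L : Ideal S) :
    Module.Flat (S ⧸ L) (M ⧸ (L • ⊤ : Submodule S M)) :=
  Module.Flat.of_linearEquiv ((quotTensorEquivQuotSMul M L).symm.extendScalarsOfSurjective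
    (Ideal.Quotient.mk_surjective : Function.Surjective (algebraMap S (S ⧸ L))))

/-- Fibrewise criterion of flatness: `R → S → S'` local, `S` essentially of finite type and `S'`
essentially of finite presentation over `R`. -/
theorem flat_of_fibre {R S S' M : Type u} [CommRing R] [CommRing S] [CommRing S']
    [IsLocalRing R] [IsLocalRing S] [IsLocalRing S'] [Algebra R S] [Algebra S S'] [Algebra R S'] [IsScalarTower R S S']
    [IsLocalHom (algebraMap R S)] [IsLocalHom (algebraMap S S')]
    [Algebra.EssFiniteType R S] (hS' : CAlgX.IsEssFinitePresentation R S')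
    [AddCommGroup M] [Module S' M] [Module S M] [Module R M] [IsScalarTower S S' M] [IsScalarTower R S' M]
    [IsScalarTower R S M] [Module.FinitePresentation S' M] [Nontrivial M] [Module.Flat R M]
    (hfib : Module.Flat (S ⧸ (maximalIdeal R).map (algebraMap R S))
      (M ⧸ (maximalIdeal R).map (algebraMap R S) • (⊤ : Submodule S M))) :
    Module.Flat R S ∧ Module.Flat S M := by
  obtain ⟨S₁, _, _, _, _, _, hS₁, hloc, hsurj, hker⟩ := exists_fp_cover (R := R) (S := S)
  letI : Algebra S₁ S' := ((algebraMap S S').comp (algebraMap S₁ S)).toAlgebra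
  letI : Module S₁ M := Module.compHom M (algebraMap S₁ S)
  haveI : IsScalarTower S₁ S M := IsScalarTower.of_algebraMap_smul fun _ _ => rfl
  haveI : IsScalarTower R S₁ S' := IsScalarTower.of_algebraMap_eq fun r => by
    show _ = algebraMap S S' (algebraMap S₁ S (algebraMap R S₁ r))
    rw [← IsScalarTower.algebraMap_apply R S₁ S, ← IsScalarTower.algebraMap_apply R S S']
  haveI : IsScalarTower S₁ S' M := IsScalarTower.of_algebraMap_smul fun a m => by
    show algebraMap S S' (algebraMap S₁ S a) • m = a • m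
    rw [IsScalarTower.algebraMap_smul, IsScalarTower.algebraMap_smul]
  haveI : IsScalarTower R S₁ M := IsScalarTower.of_algebraMap_smul fun r m => by
    show algebraMap S₁ S (algebraMap R S₁ r) • m = r • m
    rw [← IsScalarTower.algebraMap_apply R S₁ S, IsScalarTower.algebraMap_smul]
  haveI : IsLocalHom (algebraMap S₁ S) := IsLocalHom.of_surjective _ hsurj
  haveI : IsLocalHom (algebraMap S₁ S') := RingHom.isLocalHom_comp (algebraMap S S') (algebraMap S₁ S)
  let K := (maximalIdeal R).map (algebraMap R S₁)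
  let L := (maximalIdeal R).map (algebraMap R S)
  have hKL : K.map (algebraMap S₁ S) = L := by
    rw [Ideal.map_map, ← IsScalarTower.algebraMap_eq]
  have hcomap : L.comap (algebraMap S₁ S) = K := by
    rw [← hKL, Ideal.comap_map_of_surjective _ hsurj, sup_eq_left]
    exact hker
  let φ : S₁ ⧸ K →+* S ⧸ L := Ideal.quotientMap L (algebraMap S₁ S) hcomap.ge
  have hφ : Function.Bijective φ :=
    ⟨Ideal.quotientMap_injective' hcomap.le, Ideal.quotientMap_surjective hsurj⟩
  have hfib₁ : Module.Flat (S₁ ⧸ K) (M ⧸ (K • ⊤ : Submodule S₁ M)) := by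
    letI : Algebra (S₁ ⧸ K) (S ⧸ L) := φ.toAlgebra
    letI : Module (S₁ ⧸ K) (M ⧸ (L • ⊤ : Submodule S M)) := Module.compHom _ φ
    haveI : IsScalarTower (S₁ ⧸ K) (S ⧸ L) (M ⧸ (L • ⊤ : Submodule S M)) :=
      IsScalarTower.of_algebraMap_smul fun _ _ => rfl
    haveI : Module.Flat (S₁ ⧸ K) (S ⧸ L) := RingHom.Flat.of_bijective hφ
    haveI : Module.Flat (S₁ ⧸ K) (M ⧸ (L • ⊤ : Submodule S M)) := Module.Flat.trans (S₁ ⧸ K) (S ⧸ L) _
    haveI : IsScalarTower S₁ (S₁ ⧸ K) (M ⧸ (L • ⊤ : Submodule S M)) :=
      IsScalarTower.of_algebraMap_smul fun a m => by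
        show φ (Ideal.Quotient.mk K a) • m = a • m
        rw [Ideal.quotientMap_mk, ← IsScalarTower.algebraMap_smul S a m]
        rfl
    have hsub : (K • ⊤ : Submodule S₁ M) = (L • ⊤ : Submodule S M).restrictScalars S₁ := by
      rw [← hKL, Ideal.smul_restrictScalars, Submodule.restrictScalars_top]
    let e := (Submodule.quotEquivOfEq _ _ hsub).trans (Submodule.Quotient.restrictScalarsEquiv S₁ _)
    exact Module.Flat.of_linearEquiv
      (e.extendScalarsOfSurjective (Ideal.Quotient.mk_surjective : Function.Surjective (algebraMap S₁ (S₁ ⧸ K))))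
  obtain ⟨h1, h2⟩ := Groth.Agent.S2106.result (S := S₁) (S' := S') hS₁ hS' hfib₁
  -- `M` is faithfully flat over `S₁`, and is killed by the kernel
  haveI := h2
  haveI : Module.FaithfullyFlat S₁ M := by
    refine ⟨fun m hm htop => ?_⟩
    obtain rfl := IsLocalRing.eq_maximalIdeal hm
    refine not_subsingleton M ((Submodule.subsingleton_iff S').mp (subsingleton_of_bot_eq_top ?_))
    refine (Submodule.eq_bot_of_le_smul_of_le_jacobson_bot _ _ Module.Finite.fg_top ?_
      (IsLocalRing.maximalIdeal_le_jacobson _)).symm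
    intro x _
    have hx : x ∈ maximalIdeal S₁ • (⊤ : Submodule S₁ M) := by rw [htop]; trivial
    induction hx using Submodule.smul_induction_on' with
    | smul a ha y _ =>
      rw [← IsScalarTower.algebraMap_smul S' a y]
      exact Submodule.smul_mem_smul (by simpa using ha) Submodule.mem_top
    | add p _ q _ hp hq => exact add_mem (hp trivial) (hq trivial)
  have hinj : Function.Injective (algebraMap S₁ S) := by
    rw [injective_iff_map_eq_zero]
    intro z hz
    have h0 : (LinearMap.lsmul S₁ S₁ z).lTensor M = 0 := TensorProduct.ext' fun m s => by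
      have : z • m = 0 := by rw [← IsScalarTower.algebraMap_smul S z m, hz, zero_smul]
      show m ⊗ₜ[S₁] (z • s) = 0
      rw [← TensorProduct.smul_tmul, this, TensorProduct.zero_tmul]
    have := (Module.FaithfullyFlat.zero_iff_lTensor_zero S₁ M _).2 h0
    simpa using LinearMap.congr_fun this 1
  let e : S₁ ≃ₐ[R] S := AlgEquiv.ofBijective (IsScalarTower.toAlgHom R S₁ S) ⟨hinj, hsurj⟩
  refine ⟨Module.Flat.of_linearEquiv e.symm.toLinearEquiv, ?_⟩
  letI : Algebra S S₁ := e.symm.toRingEquiv.toRingHom.toAlgebra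
  haveI : IsScalarTower S S₁ M := IsScalarTower.of_algebraMap_smul fun a m => by
    show e.symm a • m = a • m
    rw [← IsScalarTower.algebraMap_smul S (e.symm a) m]
    exact congrArg (· • m) (e.apply_symm_apply a)
  haveI : Module.Flat S S₁ := RingHom.Flat.of_bijective e.symm.bijective
  exact Module.Flat.trans S S₁ M

end Groth.Agent.FibFlatMod
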