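import Groth.Agent.FibFlatMod.Local
import Groth.Agent.S1393
import Groth.Agent.QCoh.FlatOver

/-!
The fibrewise criterion of flatness for a finitely presented quasi-coherent module on a scheme.
-/

set_option autoImplicit false
set_option linter.style.haveILetI false
set_option backward.isDefEq.respectTransparency false
set_option backward.isDefEq.respectTransparency.types false

universe u

open CategoryTheory CategoryTheory.Limits AlgebraicGeometry TopologicalSpace
open IsLocalRing TensorProduct

namespace Groth.Agent.FibFlatMod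

/-- A localization of a finitely presented algebra, over a localization of the base. -/
theorem isEssFP_of_isLocalization {R₀ R B L : Type u} [CommRing R₀] [CommRing R] [CommRing B] [CommRing L]
    [Algebra R₀ R] [Algebra R₀ B] [Algebra R₀ L] [Algebra B L] [Algebra R L] [IsScalarTower R₀ B L]
    [IsScalarTower R₀ R L] (M : Submonoid R₀) [IsLocalization M R] (Q : Submonoid B) [IsLocalization Q L]
    [Algebra.FinitePresentation R₀ B] : CAlgX.IsEssFinitePresentation R L := by
  let θ : R ⊗[R₀] B →ₐ[R] L := Algebra.TensorProduct.lift (Algebra.ofId R L) (IsScalarTower.toAlgHom R₀ B L)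
    fun _ _ => Commute.all _ _
  letI : Algebra (R ⊗[R₀] B) L := θ.toRingHom.toAlgebra
  haveI : IsScalarTower R (R ⊗[R₀] B) L := IsScalarTower.of_algebraMap_eq fun r => (θ.commutes r).symm
  letI : Algebra B (R ⊗[R₀] B) := Algebra.TensorProduct.rightAlgebra
  haveI : IsScalarTower B (R ⊗[R₀] B) L := IsScalarTower.of_algebraMap_eq fun b => by
    show algebraMap B L b = θ (1 ⊗ₜ[R₀] b)
    simp [θ]
  let N : Submonoid B := (IsUnit.submonoid L).comap (algebraMap B L)
  have hQN : Q ≤ N := fun q hq => IsLocalization.map_units L (⟨q, hq⟩ : Q)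
  haveI : IsLocalization N L := IsLocalization.of_le Q N hQN fun r hr => hr
  haveI : IsLocalization (Algebra.algebraMapSubmonoid B M) (R ⊗[R₀] B) := inferInstance
  have hMN : Algebra.algebraMapSubmonoid B M ≤ N := by
    rintro _ ⟨m, hm, rfl⟩
    show IsUnit (algebraMap B L (algebraMap R₀ B m))
    rw [← IsScalarTower.algebraMap_apply, IsScalarTower.algebraMap_apply R₀ R L]
    exact (IsLocalization.map_units R (⟨m, hm⟩ : M)).map _
  exact ⟨R ⊗[R₀] B, inferInstance, inferInstance, inferInstance, inferInstance,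
    N.map (algebraMap B (R ⊗[R₀] B)), inferInstance,
    IsLocalization.isLocalization_of_submonoid_le (R ⊗[R₀] B) L (Algebra.algebraMapSubmonoid B M) N hMN⟩

/-- The local rings of a morphism locally of finite presentation are essentially of finite presentation. -/
theorem isEssFP_stalkMap {X S : Scheme.{u}} (u : X ⟶ S) [LocallyOfFinitePresentation u] (x : X) :
    letI := (u.stalkMap x).hom.toAlgebra
    CAlgX.IsEssFinitePresentation (S.presheaf.stalk (u x)) (X.presheaf.stalk x) := by
  letI := (u.stalkMap x).hom.toAlgebra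
  obtain ⟨_, ⟨V, hV, rfl⟩, hxV, -⟩ :=
    S.isBasis_affineOpens.exists_subset_of_mem_open (Set.mem_univ (u x)) isOpen_univ
  obtain ⟨_, ⟨U, hU, rfl⟩, hxU, hle⟩ :=
    X.isBasis_affineOpens.exists_subset_of_mem_open (show x ∈ u ⁻¹ᵁ V from hxV) (u ⁻¹ᵁ V).2
  letI : Algebra Γ(S, V) Γ(X, U) := (u.appLE V U hle).hom.toAlgebra
  haveI : Algebra.FinitePresentation Γ(S, V) Γ(X, U) := u.finitePresentation_appLE hV hU hle
  letI := QCoh.stalkAlg (X := S) hxV
  letI := QCoh.stalkAlg (X := X) hxU
  letI : Algebra Γ(S, V) (X.presheaf.stalk x) := (u.appLE V U hle ≫ X.presheaf.germ U x hxU).hom.toAlgebra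
  haveI : IsScalarTower Γ(S, V) Γ(X, U) (X.presheaf.stalk x) := IsScalarTower.of_algebraMap_eq fun _ => rfl
  haveI : IsScalarTower Γ(S, V) (S.presheaf.stalk (u x)) (X.presheaf.stalk x) :=
    IsScalarTower.of_algebraMap_eq fun a => by
      show X.presheaf.germ U x hxU (u.appLE V U hle a) = u.stalkMap x (S.presheaf.germ V (u x) hxV a)
      rw [Scheme.Hom.germ_stalkMap_apply u V x hxV a]
      exact X.presheaf.germ_res_apply (homOfLE hle) x hxU _
  haveI := QCoh.isLocalization_stalk' hV hxV
  haveI := QCoh.isLocalization_stalk' hU hxU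
  exact isEssFP_of_isLocalization (hV.primeIdealOf ⟨u x, hxV⟩).asIdeal.primeCompl
    (hU.primeIdealOf ⟨x, hxU⟩).asIdeal.primeCompl

/-- The criterion at a point. -/
theorem flat_iff {X Y S : Scheme.{u}} (f : X ⟶ Y) (g : Y ⟶ S) [LocallyOfFinitePresentation (f ≫ g)]
    [LocallyOfFiniteType g] (F : X.Modules) (hq : Coh.IsQCoh F) (hfp : CohB1.IsFP F) (x : X)
    (hx : Nontrivial (F.presheaf.stalk x)) :
    letI := FlatMod.moduleStalkOver f F x
    (FlatMod.IsFlatOverAt (f ≫ g) F x ∧
      Module.Flat ((Y.presheaf.stalk (f x)) ⧸ (maximalIdeal (S.presheaf.stalk (g (f x)))).map (g.stalkMap (f x)).hom)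
        ((F.presheaf.stalk x) ⧸ ((maximalIdeal (S.presheaf.stalk (g (f x)))).map (g.stalkMap (f x)).hom •
          (⊤ : Submodule (Y.presheaf.stalk (f x)) (F.presheaf.stalk x))))) ↔
    ((g.stalkMap (f x)).hom.Flat ∧ FlatMod.IsFlatOverAt f F x) := by
  letI : Algebra (S.presheaf.stalk (g (f x))) (Y.presheaf.stalk (f x)) := (g.stalkMap (f x)).hom.toAlgebra
  letI : Algebra (Y.presheaf.stalk (f x)) (X.presheaf.stalk x) := (f.stalkMap x).hom.toAlgebra
  letI : Algebra (S.presheaf.stalk (g (f x))) (X.presheaf.stalk x) := ((f ≫ g).stalkMap x).hom.toAlgebra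
  haveI : IsScalarTower (S.presheaf.stalk (g (f x))) (Y.presheaf.stalk (f x)) (X.presheaf.stalk x) := IsScalarTower.of_algebraMap_eq' (by
    show ((f ≫ g).stalkMap x).hom = _
    rw [Scheme.Hom.stalkMap_comp]
    rfl)
  letI : Module (Y.presheaf.stalk (f x)) (F.presheaf.stalk x) := FlatMod.moduleStalkOver f F x
  letI : Module (S.presheaf.stalk (g (f x))) (F.presheaf.stalk x) := FlatMod.moduleStalkOver (f ≫ g) F x
  haveI : IsScalarTower (Y.presheaf.stalk (f x)) (X.presheaf.stalk x) (F.presheaf.stalk x) := IsScalarTower.of_algebraMap_smul fun _ _ => rfl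
  haveI : IsScalarTower (S.presheaf.stalk (g (f x))) (X.presheaf.stalk x) (F.presheaf.stalk x) := IsScalarTower.of_algebraMap_smul fun _ _ => rfl
  haveI : IsScalarTower (S.presheaf.stalk (g (f x))) (Y.presheaf.stalk (f x)) (F.presheaf.stalk x) := IsScalarTower.of_algebraMap_smul fun r m => by
    show algebraMap (Y.presheaf.stalk (f x)) (X.presheaf.stalk x) (algebraMap (S.presheaf.stalk (g (f x))) (Y.presheaf.stalk (f x)) r) • m = r • m
    rw [← IsScalarTower.algebraMap_apply (S.presheaf.stalk (g (f x))) (Y.presheaf.stalk (f x)) (X.presheaf.stalk x), IsScalarTower.algebraMap_smul]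
  haveI : IsLocalHom (algebraMap (S.presheaf.stalk (g (f x))) (Y.presheaf.stalk (f x))) := inferInstanceAs (IsLocalHom (g.stalkMap (f x)).hom)
  haveI : IsLocalHom (algebraMap (Y.presheaf.stalk (f x)) (X.presheaf.stalk x)) := inferInstanceAs (IsLocalHom (f.stalkMap x).hom)
  haveI : Module.FinitePresentation (X.presheaf.stalk x) (F.presheaf.stalk x) := S1393.fp_stalk hq hfp x
  haveI : Algebra.EssFiniteType (S.presheaf.stalk (g (f x))) (Y.presheaf.stalk (f x)) := LocallyOfFiniteType.stalkMap g (f x)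
  haveI : Nontrivial (F.presheaf.stalk x) := hx
  constructor
  · rintro ⟨h1, h2⟩
    haveI : Module.Flat (S.presheaf.stalk (g (f x))) (F.presheaf.stalk x) := h1
    exact flat_of_fibre (R := (S.presheaf.stalk (g (f x)))) (S := (Y.presheaf.stalk (f x))) (S' := (X.presheaf.stalk x)) (M := (F.presheaf.stalk x)) (isEssFP_stalkMap (f ≫ g) x) h2
  · rintro ⟨h1, h2⟩
    haveI : Module.Flat (S.presheaf.stalk (g (f x))) (Y.presheaf.stalk (f x)) := h1
    haveI : Module.Flat (Y.presheaf.stalk (f x)) (F.presheaf.stalk x) := h2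
    exact ⟨Module.Flat.trans (S.presheaf.stalk (g (f x))) (Y.presheaf.stalk (f x)) (F.presheaf.stalk x), flat_fibre (S := (Y.presheaf.stalk (f x))) (M := (F.presheaf.stalk x)) _⟩

end Groth.Agent.FibFlatMod
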